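import Mathlib

/-!
A criterion for an abelian subgroup of order 64 and index 8 to be the only one of its order.
-/

set_option autoImplicit false

namespace CfsgLib.Golay.SylowQuot

variable {S : Type*} [Group S]

/-- The part of `A` commuting with an element. -/
def fixA (A : Subgroup S) (u : S) : Set S := {a | a ∈ A ∧ Commute u a}

theorem eq_of_fix_bounds [Finite S] {A : Subgroup S} (hA : IsMulCommutative A)
    (hA64 : Nat.card A = 64) (u : Fin 7 → S) (hcov : ∀ x, x ∈ A ∨ ∃ i, (u i)⁻¹ * x ∈ A)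
    (h1 : ∀ i, (fixA A (u i)).ncard ≤ 16)
    (h2 : ∀ i j, i ≠ j → (fixA A (u i) ∩ fixA A (u j)).ncard ≤ 8)
    (h7 : {a | a ∈ A ∧ ∀ i, Commute (u i) a}.ncard ≤ 4)
    {B : Subgroup S} (hB : IsMulCommutative B) (hB64 : Nat.card B = 64) : B = A := by
  classical
  haveI := Fintype.ofFinite S
  by_contra hne
  have hnle : ¬ B ≤ A := fun h => hne (Subgroup.eq_of_le_of_card_ge h (by omega))
  have hcls : ∀ x, ∃ c : Option (Fin 7),
      (c = none → x ∈ A) ∧ ∀ i, c = some i → (u i)⁻¹ * x ∈ A := by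
    intro x
    rcases hcov x with h | ⟨i, h⟩
    · exact ⟨none, fun _ => h, fun i hi => nomatch hi⟩
    · exact ⟨some i, fun hi => (nomatch hi), fun j hj => Option.some_injective _ hj ▸ h⟩
  choose cls hcl0 hcl using hcls
  set D := B ⊓ A with hD
  set U := (Finset.univ.filter fun c => ∃ b ∈ B, cls b = c) with hU
  have hsame : ∀ b b', cls b = cls b' → b⁻¹ * b' ∈ A := by
    intro b b' h
    rcases hc : cls b with _ | i
    · exact mul_mem (inv_mem (hcl0 b hc)) (hcl0 b' (h ▸ hc))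
    · have h1 := hcl b i hc
      have h2 := hcl b' i (h ▸ hc)
      rw [show b⁻¹ * b' = ((u i)⁻¹ * b)⁻¹ * ((u i)⁻¹ * b') by group]
      exact mul_mem (inv_mem h1) h2
  have hrep : ∀ c : U, ∃ b ∈ B, cls b = (c : Option (Fin 7)) := fun c =>
    (Finset.mem_filter.1 c.2).2
  choose rep hrepB hrepc using hrep
  have hmemU : ∀ b ∈ B, cls b ∈ U := fun b hb =>
    Finset.mem_filter.2 ⟨Finset.mem_univ _, b, hb, rfl⟩
  have hbound : Nat.card B ≤ U.card * Nat.card D := by
    rw [← Nat.card_eq_finsetCard, ← Nat.card_prod]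
    refine Nat.card_le_card_of_injective (fun b : B => ((⟨cls b, hmemU b b.2⟩ : U),
      (⟨(rep ⟨cls b, hmemU b b.2⟩)⁻¹ * b,
        Subgroup.mem_inf.2 ⟨mul_mem (inv_mem (hrepB _)) b.2, hsame _ _ (hrepc _)⟩⟩ : D)))
      fun b b' h => ?_
    obtain ⟨hc, hd⟩ := Prod.ext_iff.1 h
    have hd' : (rep ⟨cls b, hmemU b b.2⟩)⁻¹ * (b : S) = (rep ⟨cls b', hmemU b' b'.2⟩)⁻¹ * b' :=
      congrArg Subtype.val hd
    have hc' : (⟨cls b, hmemU b b.2⟩ : U) = ⟨cls b', hmemU b' b'.2⟩ := hc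
    rw [hc'] at hd'
    exact Subtype.ext (mul_left_cancel hd')
  have hcomm : ∀ i, some i ∈ U → ∀ d ∈ D, Commute (u i) d := by
    intro i hi d hd
    obtain ⟨b, hb, hbc⟩ := (Finset.mem_filter.1 hi).2
    obtain ⟨hdB, hdA⟩ := Subgroup.mem_inf.1 hd
    have h1 : Commute b d :=
      congrArg Subtype.val (mul_comm' (⟨b, hb⟩ : B) ⟨d, hdB⟩)
    have h3 : Commute ((u i)⁻¹ * b) d :=
      congrArg Subtype.val (mul_comm' (⟨_, hcl b i hbc⟩ : A) ⟨d, hdA⟩)
    have : u i = b * ((u i)⁻¹ * b)⁻¹ := by group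
    rw [this]
    exact h1.mul_left h3.inv_left
  have hDcard : ∀ T : Set S, (∀ d ∈ D, d ∈ T) → Nat.card D ≤ T.ncard := fun T hT => by
    calc Nat.card D = (D : Set S).ncard := Nat.card_coe_set_eq _
      _ ≤ T.ncard := Set.ncard_le_ncard hT (Set.toFinite _)
  obtain ⟨b₀, hb₀, hb₀A⟩ := SetLike.not_le_iff_exists.1 hnle
  obtain ⟨i, hi⟩ : ∃ i, cls b₀ = some i := by
    rcases hc : cls b₀ with _ | i
    · exact absurd (hcl0 b₀ hc) hb₀A
    · exact ⟨i, rfl⟩
  have hiU : some i ∈ U := hi ▸ hmemU b₀ hb₀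
  by_cases hj : ∃ j, j ≠ i ∧ some j ∈ U
  · obtain ⟨j, hji, hjU⟩ := hj
    have hD8 : Nat.card D ≤ 8 := le_trans (hDcard (fixA A (u i) ∩ fixA A (u j)) fun d hd =>
      ⟨⟨(Subgroup.mem_inf.1 hd).2, hcomm i hiU d hd⟩, ⟨(Subgroup.mem_inf.1 hd).2, hcomm j hjU d hd⟩⟩)
      (h2 i j (Ne.symm hji))
    by_cases hall : ∀ k, some k ∈ U
    · have hD4 : Nat.card D ≤ 4 := le_trans (hDcard {a | a ∈ A ∧ ∀ k, Commute (u k) a} fun d hd =>
        ⟨(Subgroup.mem_inf.1 hd).2, fun k => hcomm k (hall k) d hd⟩) h7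
      have hU8 : U.card ≤ 8 := le_trans (Finset.card_le_univ _) (by simp)
      have := Nat.mul_le_mul hU8 hD4
      omega
    · push Not at hall
      obtain ⟨k, hk⟩ := hall
      have hU7 : U.card ≤ 7 := by
        have : U ⊆ Finset.univ.erase (some k) := fun c hc =>
          Finset.mem_erase.2 ⟨fun h => hk (h ▸ hc), Finset.mem_univ _⟩
        refine le_trans (Finset.card_le_card this) ?_
        simp
      have := Nat.mul_le_mul hU7 hD8
      omega
  · push Not at hj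
    have hU2 : U.card ≤ 2 := by
      have : U ⊆ {none, some i} := fun c hc => by
        rcases c with _ | k
        · simp
        · by_cases h : k = i
          · simp [h]
          · exact absurd hc (hj k h)
      exact le_trans (Finset.card_le_card this) (Finset.card_le_two)
    have hD16 : Nat.card D ≤ 16 :=
      le_trans (hDcard (fixA A (u i)) fun d hd => ⟨(Subgroup.mem_inf.1 hd).2, hcomm i hiU d hd⟩) (h1 i)
    have := Nat.mul_le_mul hU2 hD16
    omega

end CfsgLib.Golay.SylowQuot
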