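import Cfsg.Agent.Lib.Golay.SylowTwoCert
import Cfsg.Agent.Lib.Golay.SylowQuot.Data

/-!
The computable checks on the data of the quotient of the Sylow 2-subgroup by its centre.
-/

set_option autoImplicit false

namespace CfsgLib.Golay.SylowQuot

open CfsgLib.Golay CfsgLib.Golay.SylowTwo

/-- commuting modulo the central involution -/
def mz (x y : ℕ) : Bool :=
  eqP (mulP x y) (mulP y x) || eqP (mulP x y) (mulP zc (mulP y x))

/-- trivial or the central involution -/
def triv (x : ℕ) : Bool := eqP x idP || eqP x zc

/-- membership in a list -/
def inL (l : List ℕ) (x : ℕ) : Bool := l.any (eqP x)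

/-- the last six generators -/
def phi : List ℕ := pcs.drop 4

/-- check of the groups -/
def groupOK : Bool :=
  pcOK pcs pcc && pcs.length == 10 && pcs.all inM24 && inL (els ags) zc && validP zc
    && pcs.all (fun g => eqP (mulP g zc) (mulP zc g))
    && eqP (mulP zc zc) idP && !eqP zc idP
    && (els pcs).all (fun P => triv P || pcs.any fun g => !eqP (mulP g P) (mulP P g))

/-- check of the abelian subgroup -/
def subOK : Bool :=
  pcOK ags agc && ags.length == 7 && ags.all (fun a => inL (els pcs) a)
    && ags.all (fun a => triv (mulP a a) && ags.all (mz a))
    && pcs.all fun g => ags.all fun a =>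
      (els ags).any fun b => eqP (mulP g a) (mulP b g)

/-- check of the coset representatives -/
def cosOK : Bool :=
  reps.length == 7 && reps.all (fun u => inL (els pcs) u)
    && (idP :: reps).all fun u => pcs.all fun g => (idP :: reps).any fun v =>
      (els ags).any fun b => eqP (mulP u g) (mulP v b)

/-- check of the fixed parts -/
def fixOK : Bool :=
  (List.range 7).all (fun i => decide ((els ags).countP (fun a => mz (reps.getD i idP) a) ≤ 32)) &&
    (List.range 7).all (fun i => (List.range 7).all fun j => i == j ||
      decide ((els ags).countP (fun a => mz (reps.getD i idP) a && mz (reps.getD j idP) a) ≤ 16)) &&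
    decide ((els ags).countP (fun a => reps.all fun u => mz u a) ≤ 8)

/-- generators of a maximal subgroup containing the last six -/
def maxGens (v : ℕ) : List ℕ :=
  let out := (List.range 4).filter fun k => v.testBit k
  ((List.range 4).filter fun k => !v.testBit k).map (fun k => pcs.getD k idP) ++
    out.map fun k => mulP (pcs.getD (out.headD 0) idP) (pcs.getD k idP)

/-- check of the maximal subgroups -/
def maxOK : Bool :=
  sqs.length == 6 && (List.range 6).all (fun i =>
      inL (els pcs) ((sqs.getD i []).headD idP) && eqP (phi.getD i idP)
        (mulP ((sqs.getD i []).headD idP) ((sqs.getD i []).headD idP)))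
    && (els pcs).all (fun P => !(phi.all (mz P)) || inL cphi P)
    && cphi.all validP
    && (List.range 16).all fun v => v == 0 ||
      decide (cphi.countP (fun P => (maxGens v).all (mz P)) ≤ 16)

theorem group_ok : groupOK = true := by decide +kernel

theorem sub_ok : subOK = true := by decide +kernel

theorem cos_ok : cosOK = true := by decide +kernel

theorem fix_ok : fixOK = true := by decide +kernel

theorem max_ok : maxOK = true := by decide +kernel

end CfsgLib.Golay.SylowQuot
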