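import Cfsg.Agent.Lib.Golay.SylowQuot.Check
import Cfsg.Agent.Lib.Golay.SylowQuot.Abelian
import Cfsg.Agent.Lib.Golay.MathieuFacts
import Cfsg.Prelude.Def_Transfer

/-!
The Sylow 2-subgroup of the largest group on 24 points modulo its centre: maximal subgroups and the
abelian subgroup of order 64.
-/

set_option autoImplicit false

namespace CfsgLib.Golay.SylowQuot

open Cfsg CfsgLib.Golay CfsgLib.Golay.SylowTwo

attribute [local irreducible] idP toPerm mulP validP

theorem pcs_ok : pcOK pcs pcc = true := by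
  have h := group_ok
  simp only [groupOK, Bool.and_eq_true] at h
  exact h.1.1.1.1.1.1.1.1

theorem pcs_length : pcs.length = 10 := by
  have h := group_ok
  simp only [groupOK, Bool.and_eq_true, beq_iff_eq] at h
  exact h.1.1.1.1.1.1.1.2

theorem card_P : Nat.card (HS pcs) = 1024 := by rw [card_HS pcs_ok, pcs_length]; norm_num

theorem els_valid {P : ℕ} (h : P ∈ els pcs) : validP P = true ∧ toPerm P ∈ HS pcs :=
  els_mem (validP_of_pcOK pcs_ok) P h

theorem inL_valid {P : ℕ} (hP : validP P = true) (h : inL (els pcs) P = true) :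
    toPerm P ∈ HS pcs := by
  simp only [inL, List.any_eq_true] at h
  obtain ⟨R, hR, he⟩ := h
  rw [toPerm_eq_of_eqP hP (els_valid hR).1 he]
  exact (els_valid hR).2

theorem pcs_mem {g : ℕ} (hg : g ∈ pcs) : toPerm g ∈ HS pcs :=
  Subgroup.subset_closure ⟨g, hg, rfl⟩

theorem zc_valid : validP zc = true := by
  have h := group_ok
  simp only [groupOK, Bool.and_eq_true] at h
  exact h.1.1.1.1.2

theorem zc_mem : toPerm zc ∈ HS pcs := by
  have h : inL (els pcs) zc = true := by decide +kernel
  exact inL_valid zc_valid h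

/-- the central involution -/
noncomputable def zE : HS pcs := ⟨toPerm zc, zc_mem⟩

theorem triv_spec {x : ℕ} (hx : validP x = true) (h : triv x = true) :
    toPerm x = 1 ∨ toPerm x = toPerm zc := by
  simp only [triv, Bool.or_eq_true] at h
  rcases h with h | h
  · left; rw [toPerm_eq_of_eqP hx validP_idP h, toPerm_idP]
  · right; exact toPerm_eq_of_eqP hx zc_valid h

theorem mem_center {x : HS pcs} : x ∈ Subgroup.center (HS pcs) ↔ x = 1 ∨ x = zE := by
  have h := group_ok
  simp only [groupOK, Bool.and_eq_true, List.all_eq_true, Bool.or_eq_true, List.any_eq_true,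
    Bool.not_eq_true'] at h
  obtain ⟨⟨⟨⟨⟨-, hv⟩, hcomm⟩, -⟩, -⟩, hcen⟩ := h
  constructor
  · intro hx
    obtain ⟨P, hP, hPx'⟩ := exists_els pcs_ok x.1 x.2
    have hPx := hPx'.symm
    obtain ⟨hPv, -⟩ := els_valid hP
    rcases hcen P hP with h1 | ⟨g, hg, hgn⟩
    · rcases triv_spec hPv h1 with h2 | h2
      · exact Or.inl (Subtype.ext (hPx.symm.trans h2 |>.trans rfl))
      · exact Or.inr (Subtype.ext (hPx.symm.trans h2 |>.trans rfl))
    · have hgv := validP_of_pcOK pcs_ok g hg
      have e := congrArg Subtype.val (Subgroup.mem_center_iff.1 hx ⟨toPerm g, pcs_mem hg⟩)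
      have e' : toPerm g * toPerm P = toPerm P * toPerm g := by rw [hPx]; exact e
      rw [← toPerm_mulP hgv hPv, ← toPerm_mulP hPv hgv] at e'
      rw [eqP_of_toPerm_eq (validP_mulP hgv hPv) (validP_mulP hPv hgv) e'] at hgn
      exact Bool.noConfusion hgn
  · rintro (rfl | rfl)
    · exact one_mem _
    · rw [Subgroup.mem_center_iff]
      intro y
      apply Subtype.ext
      show (y : Equiv.Perm GolayPt) * toPerm zc = toPerm zc * y
      have hle : HS pcs ≤ Subgroup.centralizer {toPerm zc} := by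
        rw [HS, Subgroup.closure_le]
        rintro _ ⟨g, hg, rfl⟩
        rw [SetLike.mem_coe, Subgroup.mem_centralizer_singleton_iff]
        have hgv := validP_of_pcOK pcs_ok g hg
        rw [← toPerm_mulP hgv hv, ← toPerm_mulP hv hgv,
          toPerm_eq_of_eqP (validP_mulP hgv hv) (validP_mulP hv hgv) (hcomm g hg)]
      exact Subgroup.mem_centralizer_singleton_iff.1 (hle y.2)

theorem zE_ne : zE ≠ 1 := by
  intro h
  have h0 := group_ok
  simp only [groupOK, Bool.and_eq_true, Bool.not_eq_true'] at h0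
  have h1 : toPerm zc = toPerm idP := by
    rw [toPerm_idP]; exact congrArg Subtype.val h
  rw [eqP_of_toPerm_eq zc_valid validP_idP h1] at h0
  exact Bool.noConfusion h0.1.2

theorem card_center : Nat.card (Subgroup.center (HS pcs)) = 2 := by
  have : (Subgroup.center (HS pcs) : Set (HS pcs)) = {1, zE} := Set.ext fun x => mem_center
  rw [← SetLike.coe_sort_coe, Nat.card_coe_set_eq, this, Set.ncard_pair (Ne.symm zE_ne)]

/-- the quotient -/
abbrev Quo : Type := HS pcs ⧸ Subgroup.center (HS pcs)

theorem card_Quo : Nat.card Quo = 512 := by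
  have h := Subgroup.card_eq_card_quotient_mul_card_subgroup (Subgroup.center (HS pcs))
  rw [card_P, card_center] at h
  show Nat.card (HS pcs ⧸ Subgroup.center (HS pcs)) = 512
  omega

open Classical in
/-- the image of a packed element -/
noncomputable def img (P : ℕ) : Quo :=
  if h : toPerm P ∈ HS pcs then QuotientGroup.mk ⟨toPerm P, h⟩ else 1

theorem img_eq {P : ℕ} (h : toPerm P ∈ HS pcs) :
    img P = QuotientGroup.mk ⟨toPerm P, h⟩ := dif_pos h

theorem exists_img (q : Quo) : ∃ P ∈ els pcs, img P = q := by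
  obtain ⟨x, rfl⟩ := QuotientGroup.mk_surjective q
  obtain ⟨P, hP, hPx'⟩ := exists_els pcs_ok x.1 x.2
  have hPx := hPx'.symm
  exact ⟨P, hP, by rw [img_eq (els_valid hP).2]; exact congrArg _ (Subtype.ext hPx)⟩

theorem img_mul {P R : ℕ} (hP : validP P = true) (hR : validP R = true) (hP' : toPerm P ∈ HS pcs)
    (hR' : toPerm R ∈ HS pcs) : img (mulP P R) = img P * img R := by
  have hm : toPerm (mulP P R) ∈ HS pcs := by rw [toPerm_mulP hP hR]; exact mul_mem hP' hR'
  rw [img_eq hm, img_eq hP', img_eq hR', ← QuotientGroup.mk_mul]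
  exact congrArg _ (Subtype.ext (toPerm_mulP hP hR))

theorem img_congr {P R : ℕ} (hP : validP P = true) (hR : validP R = true) (h : eqP P R = true) :
    img P = img R := by
  unfold img
  rw [toPerm_eq_of_eqP hP hR h]

theorem mz_iff {P R : ℕ} (hP : validP P = true) (hR : validP R = true) (hP' : toPerm P ∈ HS pcs)
    (hR' : toPerm R ∈ HS pcs) : mz P R = true ↔ Commute (img P) (img R) := by
  have hPR := validP_mulP hP hR
  have hRP := validP_mulP hR hP
  have hzRP := validP_mulP zc_valid hRP
  constructor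
  · intro h
    show img P * img R = img R * img P
    rw [← img_mul hP hR hP' hR', ← img_mul hR hP hR' hP']
    simp only [mz, Bool.or_eq_true] at h
    rcases h with h | h
    · exact img_congr hPR hRP h
    · have hRP' : toPerm (mulP R P) ∈ HS pcs := by rw [toPerm_mulP hR hP]; exact mul_mem hR' hP'
      have hz : img zc = 1 := by
        rw [img_eq zc_mem, QuotientGroup.eq_one_iff]
        exact mem_center.2 (Or.inr rfl)
      rw [img_congr hPR hzRP h, img_mul zc_valid hRP zc_mem hRP', hz, one_mul]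
  · intro h
    have h' : img (mulP P R) = img (mulP R P) := by
      rw [img_mul hP hR hP' hR', img_mul hR hP hR' hP']; exact h
    have hPR' : toPerm (mulP P R) ∈ HS pcs := by rw [toPerm_mulP hP hR]; exact mul_mem hP' hR'
    have hRP' : toPerm (mulP R P) ∈ HS pcs := by rw [toPerm_mulP hR hP]; exact mul_mem hR' hP'
    rw [img_eq hPR', img_eq hRP'] at h'
    simp only [mz, Bool.or_eq_true]
    have h1 : (⟨_, hPR'⟩ : HS pcs) * (⟨_, hRP'⟩ : HS pcs)⁻¹ ∈ Subgroup.center (HS pcs) := by
      rw [← QuotientGroup.eq_one_iff, QuotientGroup.mk_mul, QuotientGroup.mk_inv, h', mul_inv_cancel]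
    rcases mem_center.1 h1 with h2 | h2
    · left
      refine eqP_of_toPerm_eq hPR hRP ?_
      exact congrArg Subtype.val (mul_inv_eq_one.1 h2)
    · right
      refine eqP_of_toPerm_eq hPR hzRP ?_
      rw [toPerm_mulP zc_valid hRP]
      exact congrArg Subtype.val (mul_inv_eq_iff_eq_mul.1 h2)

theorem count_le (K : Set Quo) (l : List ℕ) (p : ℕ → Bool)
    (h : ∀ x : HS pcs, (QuotientGroup.mk x : Quo) ∈ K → ∃ P ∈ l, p P = true ∧ toPerm P = x.1) :
    2 * K.ncard ≤ l.countP p := by
  classical
  have h1 : Nat.card (K × Subgroup.center (HS pcs)) ≤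
      Nat.card {σ // σ ∈ ((l.filter p).map toPerm).toFinset} := by
    refine Nat.card_le_card_of_injective (fun c => ⟨((c.1.1.out * c.2.1 : HS pcs) : Equiv.Perm GolayPt),
      ?_⟩) fun c d e => ?_
    · have hm : (QuotientGroup.mk (c.1.1.out * c.2.1) : Quo) ∈ K := by
        rw [QuotientGroup.mk_mul, (QuotientGroup.eq_one_iff _).2 c.2.2, mul_one,
          QuotientGroup.out_eq']
        exact c.1.2
      obtain ⟨P, hP, hpP, hPx⟩ := h _ hm
      rw [List.mem_toFinset, List.mem_map]
      exact ⟨P, List.mem_filter.2 ⟨hP, hpP⟩, hPx⟩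
    · have e0 := congrArg Subtype.val e
      simp only at e0
      have e' : c.1.1.out * c.2.1 = d.1.1.out * d.2.1 := Subtype.ext e0
      have hq := congrArg (QuotientGroup.mk : HS pcs → Quo) e'
      rw [QuotientGroup.mk_mul, QuotientGroup.mk_mul, (QuotientGroup.eq_one_iff _).2 c.2.2,
        (QuotientGroup.eq_one_iff _).2 d.2.2, mul_one, mul_one, QuotientGroup.out_eq',
        QuotientGroup.out_eq'] at hq
      rw [hq] at e'
      exact Prod.ext (Subtype.ext hq) (Subtype.ext (mul_left_cancel e'))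
  rw [Nat.card_prod, card_center, Nat.card_coe_set_eq, Nat.card_eq_finsetCard] at h1
  refine le_trans (show 2 * K.ncard ≤ ((l.filter p).map toPerm).toFinset.card by omega)
    (le_trans (List.toFinset_card_le _) ?_)
  rw [List.length_map, List.countP_eq_length_filter]

/-! ### The abelian subgroup -/

theorem ags_ok : pcOK ags agc = true ∧ ags.length = 7 := by
  have h := sub_ok
  simp only [subOK, Bool.and_eq_true, beq_iff_eq] at h
  exact ⟨h.1.1.1.1, h.1.1.1.2⟩

theorem ags_mem {a : ℕ} (ha : a ∈ ags) : validP a = true ∧ toPerm a ∈ HS pcs := by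
  have h := sub_ok
  simp only [subOK, Bool.and_eq_true, List.all_eq_true] at h
  have hv := validP_of_pcOK ags_ok.1 a ha
  exact ⟨hv, inL_valid hv (h.1.1.2 a ha)⟩

theorem HS_ags_le : HS ags ≤ HS pcs := by
  rw [HS, Subgroup.closure_le]
  rintro _ ⟨a, ha, rfl⟩
  exact (ags_mem ha).2

/-- the abelian subgroup -/
noncomputable def subA : Subgroup Quo :=
  ((HS ags).subgroupOf (HS pcs)).map (QuotientGroup.mk' (Subgroup.center (HS pcs)))

theorem center_le : Subgroup.center (HS pcs) ≤ (HS ags).subgroupOf (HS pcs) := by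
  intro x hx
  rcases mem_center.1 hx with rfl | rfl
  · exact one_mem _
  · rw [Subgroup.mem_subgroupOf]
    have h := group_ok
    simp only [groupOK, Bool.and_eq_true, inL, List.any_eq_true] at h
    obtain ⟨R, hR, he⟩ := h.1.1.1.1.1.2
    obtain ⟨hRv, hRm⟩ := els_mem (validP_of_pcOK ags_ok.1) R hR
    show toPerm zc ∈ HS ags
    rw [toPerm_eq_of_eqP zc_valid hRv he]
    exact hRm

theorem card_subA : Nat.card subA = 64 := by
  have h1 : ((HS ags).subgroupOf (HS pcs)).index = 8 := by
    have h := Subgroup.index_mul_card ((HS ags).subgroupOf (HS pcs))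
    rw [Nat.card_congr (Subgroup.subgroupOfEquivOfLe HS_ags_le).toEquiv, card_HS ags_ok.1, ags_ok.2,
      card_P] at h
    norm_num at h
    omega
  have h2 : subA.index = 8 := by
    rw [subA, Subgroup.index_map_eq _ (QuotientGroup.mk'_surjective _) (by
      rw [QuotientGroup.ker_mk']; exact center_le), h1]
  have h3 := Subgroup.index_mul_card subA
  rw [h2, card_Quo] at h3
  omega

theorem subA_eq : subA = Subgroup.closure {q | ∃ a ∈ ags, q = img a} := by
  refine le_antisymm ?_ ((Subgroup.closure_le _).2 ?_)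
  · rintro _ ⟨x, hx, rfl⟩
    have hx' : x.1 ∈ HS ags := hx
    obtain ⟨P, hP, hPx'⟩ := exists_els ags_ok.1 _ hx'
    have hPx := hPx'.symm
    have key : ∀ (y : Equiv.Perm GolayPt) (hy : y ∈ HS ags),
        (QuotientGroup.mk ⟨y, HS_ags_le hy⟩ : Quo) ∈ Subgroup.closure {q | ∃ a ∈ ags, q = img a} := by
      intro y hy
      induction hy using Subgroup.closure_induction with
      | mem w hw =>
        obtain ⟨a, ha, rfl⟩ := hw
        exact Subgroup.subset_closure ⟨a, ha, (img_eq (ags_mem ha).2).symm⟩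
      | one => exact one_mem _
      | mul v w _ _ hv hw => exact mul_mem hv hw
      | inv v _ hv => exact inv_mem hv
    exact key x.1 hx'
  · rintro _ ⟨a, ha, rfl⟩
    exact ⟨⟨toPerm a, (ags_mem ha).2⟩, Subgroup.subset_closure ⟨a, ha, rfl⟩, (img_eq _).symm⟩

theorem subA_comm : IsMulCommutative subA ∧ ∀ x ∈ subA, x ^ 2 = 1 := by
  have h := sub_ok
  simp only [subOK, Bool.and_eq_true, List.all_eq_true] at h
  obtain ⟨⟨-, hc⟩, -⟩ := h
  have hgen : ∀ x ∈ {q | ∃ a ∈ ags, q = img a}, ∀ y ∈ {q | ∃ a ∈ ags, q = img a}, x * y = y * x := by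
    rintro _ ⟨a, ha, rfl⟩ _ ⟨b, hb, rfl⟩
    exact (mz_iff (ags_mem ha).1 (ags_mem hb).1 (ags_mem ha).2 (ags_mem hb).2).1 ((hc a ha).2 b hb)
  have hcomm : ∀ x ∈ subA, ∀ y ∈ subA, x * y = y * x := by
    intro x hx y hy
    rw [subA_eq] at hx hy
    induction hx, hy using Subgroup.closure_induction₂ with
    | mem x y hx hy => exact hgen x hx y hy
    | one_left => simp
    | one_right => simp
    | mul_left a b c _ _ _ h1 h2 => exact (Commute.mul_left h1 h2).eq
    | mul_right a b c _ _ _ h1 h2 => exact (Commute.mul_right h1 h2).eq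
    | inv_left a b _ _ h => exact (Commute.inv_left h).eq
    | inv_right a b _ _ h => exact (Commute.inv_right h).eq
  refine ⟨⟨⟨fun x y => Subtype.ext (hcomm x.1 x.2 y.1 y.2)⟩⟩, ?_⟩
  intro x hx
  rw [subA_eq] at hx
  induction hx using Subgroup.closure_induction with
  | mem y hy =>
    obtain ⟨a, ha, rfl⟩ := hy
    obtain ⟨hv, hm⟩ := ags_mem ha
    rw [sq, ← img_mul hv hv hm hm]
    have ht := triv_spec (validP_mulP hv hv) (hc a ha).1
    have hmm : toPerm (mulP a a) ∈ HS pcs := by rw [toPerm_mulP hv hv]; exact mul_mem hm hm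
    rw [img_eq hmm, QuotientGroup.eq_one_iff]
    rcases ht with h1 | h1
    · exact mem_center.2 (Or.inl (Subtype.ext h1))
    · exact mem_center.2 (Or.inr (Subtype.ext h1))
  | one => exact one_pow 2
  | mul y w hy hw h1 h2 =>
    have : Commute y w := hcomm y (subA_eq ▸ hy) w (subA_eq ▸ hw)
    rw [this.mul_pow, h1, h2, one_mul]
  | inv y _ h1 => rw [inv_pow, h1, inv_one]

theorem subA_normal : subA.Normal := by
  have h := sub_ok
  simp only [subOK, Bool.and_eq_true, List.all_eq_true, List.any_eq_true] at h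
  obtain ⟨-, hn⟩ := h
  have key : ∀ g ∈ pcs, ∀ x ∈ subA, img g * x * (img g)⁻¹ ∈ subA := by
    intro g hg x hx
    rw [subA_eq] at hx ⊢
    induction hx using Subgroup.closure_induction with
    | mem y hy =>
      obtain ⟨a, ha, rfl⟩ := hy
      obtain ⟨b, hb, he⟩ := hn g hg a ha
      have hgv := validP_of_pcOK pcs_ok g hg
      obtain ⟨hbv, hbm⟩ := els_mem (validP_of_pcOK ags_ok.1) b hb
      obtain ⟨hav, ham⟩ := ags_mem ha
      have e := img_congr (validP_mulP hgv hav) (validP_mulP hbv hgv) he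
      rw [img_mul hgv hav (pcs_mem hg) ham, img_mul hbv hgv (HS_ags_le hbm) (pcs_mem hg)] at e
      rw [e, mul_inv_cancel_right, ← subA_eq, img_eq (HS_ags_le hbm)]
      exact ⟨_, hbm, rfl⟩
    | one => simp
    | mul y w _ _ h1 h2 =>
      rw [show img g * (y * w) * (img g)⁻¹ = (img g * y * (img g)⁻¹) * (img g * w * (img g)⁻¹) by group]
      exact mul_mem h1 h2
    | inv y _ h1 =>
      rw [show img g * y⁻¹ * (img g)⁻¹ = (img g * y * (img g)⁻¹)⁻¹ by group]
      exact inv_mem h1
  refine ⟨fun x hx q => ?_⟩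
  obtain ⟨y, rfl⟩ := QuotientGroup.mk_surjective q
  obtain ⟨y, hy⟩ := y
  revert x
  induction hy using Subgroup.closure_induction with
  | mem w hw =>
    obtain ⟨g, hg, rfl⟩ := hw
    intro x hx
    have := key g hg x hx
    rwa [img_eq (pcs_mem hg)] at this
  | one =>
    intro x hx
    rw [show (⟨1, _⟩ : HS pcs) = 1 from rfl, QuotientGroup.mk_one]; simpa using hx
  | mul v w hv hw h1 h2 =>
    intro x hx
    rw [show (⟨v * w, _⟩ : HS pcs) = ⟨v, hv⟩ * ⟨w, hw⟩ from rfl, QuotientGroup.mk_mul, mul_inv_rev,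
      show ∀ a b : Quo, a * b * x * (b⁻¹ * a⁻¹) = a * (b * x * b⁻¹) * a⁻¹ from fun a b => by group]
    exact h1 _ (h2 x hx)
  | inv v hv h1 =>
    intro x hx
    rw [show (⟨v⁻¹, _⟩ : HS pcs) = (⟨v, hv⟩ : HS pcs)⁻¹ from rfl, QuotientGroup.mk_inv, inv_inv]
    set c : Quo := QuotientGroup.mk (⟨v, hv⟩ : HS pcs)
    have hmap : subA.map (MulAut.conj c).toMonoidHom = subA := by
      refine Subgroup.eq_of_le_of_card_ge ?_
        (le_of_eq (Subgroup.card_map_of_injective (MulAut.conj c).injective).symm)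
      rintro _ ⟨w, hw, rfl⟩
      exact h1 w hw
    rw [← hmap] at hx
    obtain ⟨w, hw, rfl⟩ := hx
    show c⁻¹ * (c * w * c⁻¹) * c ∈ subA
    simpa [mul_assoc] using hw

/-- the representative with an index -/
noncomputable def rep (i : Fin 7) : Quo := img (reps.getD i idP)

theorem reps_mem (i : Fin 7) : validP (reps.getD i idP) = true ∧ toPerm (reps.getD i idP) ∈ HS pcs := by
  have h := cos_ok
  simp only [cosOK, Bool.and_eq_true, List.all_eq_true, beq_iff_eq] at h
  have hm : reps.getD i idP ∈ reps := by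
    rw [List.getD_eq_getElem _ _ (by rw [h.1.1]; exact i.2)]; exact List.getElem_mem _
  have hv : ∀ u ∈ reps, validP u = true := by decide +kernel
  exact ⟨hv _ hm, inL_valid (hv _ hm) (h.1.2 _ hm)⟩

theorem cover (x : Quo) : x ∈ subA ∨ ∃ i, (rep i)⁻¹ * x ∈ subA := by
  haveI := subA_normal
  have h := cos_ok
  simp only [cosOK, Bool.and_eq_true, List.all_eq_true, List.any_eq_true, beq_iff_eq] at h
  obtain ⟨⟨hlen, hin⟩, hstep⟩ := h
  have hmem : ∀ u ∈ idP :: reps, validP u = true ∧ toPerm u ∈ HS pcs := by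
    intro u hu
    rcases List.mem_cons.1 hu with rfl | hu
    · exact ⟨validP_idP, by rw [toPerm_idP]; exact one_mem _⟩
    · obtain ⟨i, hi, rfl⟩ := List.getElem_of_mem hu
      have := reps_mem ⟨i, hlen ▸ hi⟩
      rwa [List.getD_eq_getElem _ _ hi] at this
  set U : Set Quo := {q | ∃ u ∈ idP :: reps, (img u)⁻¹ * q ∈ subA} with hU
  have hone : (1 : Quo) ∈ U := ⟨idP, List.mem_cons_self, by
    have : img idP = 1 := by
      rw [img_eq (by rw [toPerm_idP]; exact one_mem _), QuotientGroup.eq_one_iff]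
      exact mem_center.2 (Or.inl (Subtype.ext toPerm_idP))
    rw [this, inv_one, one_mul]; exact one_mem _⟩
  have hmul : ∀ g ∈ pcs, ∀ q ∈ U, q * img g ∈ U := by
    rintro g hg q ⟨u, hu, hq⟩
    obtain ⟨v, hv, b, hb, he⟩ := hstep u hu g hg
    refine ⟨v, hv, ?_⟩
    obtain ⟨huv, hum⟩ := hmem u hu
    obtain ⟨hvv, hvm⟩ := hmem v hv
    have hgv := validP_of_pcOK pcs_ok g hg
    obtain ⟨hbv, hbm⟩ := els_mem (validP_of_pcOK ags_ok.1) b hb
    have e := img_congr (validP_mulP huv hgv) (validP_mulP hvv hbv) he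
    rw [img_mul huv hgv hum (pcs_mem hg), img_mul hvv hbv hvm (HS_ags_le hbm)] at e
    rw [show (img v)⁻¹ * (q * img g) =
      ((img v)⁻¹ * (img u * img g)) * ((img g)⁻¹ * ((img u)⁻¹ * q) * img g) by group, e,
      inv_mul_cancel_left]
    refine mul_mem ?_ ?_
    · rw [img_eq (HS_ags_le hbm)]; exact ⟨_, hbm, rfl⟩
    · have := subA_normal.conj_mem _ hq (img g)⁻¹
      rwa [inv_inv] at this
  have hall : x ∈ U := by
    obtain ⟨y, rfl⟩ := QuotientGroup.mk_surjective x
    have key : ∀ y : HS pcs, ∀ q ∈ U, q * (QuotientGroup.mk y : Quo) ∈ U := by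
      rintro ⟨y, hy⟩
      obtain ⟨P, hP, rfl⟩ := exists_els pcs_ok y hy
      have hgo : ∀ (gs : List ℕ), (∀ g ∈ gs, g ∈ pcs) → ∀ R ∈ els gs, ∀ q ∈ U, q * img R ∈ U := by
        intro gs
        induction gs with
        | nil =>
          intro _ R hR q hq
          simp only [els, List.mem_singleton] at hR
          subst hR
          have : img idP = 1 := by
            rw [img_eq (by rw [toPerm_idP]; exact one_mem _), QuotientGroup.eq_one_iff]
            exact mem_center.2 (Or.inl (Subtype.ext toPerm_idP))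
          rwa [this, mul_one]
        | cons g gs ih =>
          intro hgs R hR q hq
          simp only [List.mem_cons, forall_eq_or_imp] at hgs
          rw [els] at hR
          rcases List.mem_append.1 hR with hR | hR
          · exact ih hgs.2 R hR q hq
          · obtain ⟨R', hR', rfl⟩ := List.mem_map.1 hR
            have hgv := validP_of_pcOK pcs_ok g hgs.1
            obtain ⟨hR'v, hR'm⟩ := els_mem (fun w hw => validP_of_pcOK pcs_ok w (hgs.2 w hw)) R' hR'
            have hle : HS gs ≤ HS pcs := by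
              rw [HS, Subgroup.closure_le]
              rintro _ ⟨w, hw, rfl⟩
              exact pcs_mem (hgs.2 w hw)
            rw [img_mul hgv hR'v (pcs_mem hgs.1) (hle hR'm), ← mul_assoc]
            exact ih hgs.2 R' hR' _ (hmul g hgs.1 q hq)
      intro q hq
      have := hgo pcs (fun g hg => hg) P hP q hq
      rwa [img_eq (els_valid hP).2] at this
    have := key y 1 hone
    rwa [one_mul] at this
  obtain ⟨u, hu, hq⟩ := hall
  rcases List.mem_cons.1 hu with rfl | hu
  · left
    have : img idP = 1 := by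
      rw [img_eq (by rw [toPerm_idP]; exact one_mem _), QuotientGroup.eq_one_iff]
      exact mem_center.2 (Or.inl (Subtype.ext toPerm_idP))
    rwa [this, inv_one, one_mul] at hq
  · right
    obtain ⟨i, hi, rfl⟩ := List.getElem_of_mem hu
    refine ⟨⟨i, hlen ▸ hi⟩, ?_⟩
    rw [rep, List.getD_eq_getElem _ _ hi]
    exact hq

theorem fix_lift {T : List ℕ} (hT : ∀ u ∈ T, validP u = true ∧ toPerm u ∈ HS pcs) (x : HS pcs)
    (hx : (QuotientGroup.mk x : Quo) ∈ subA) (hc : ∀ u ∈ T, Commute (img u) (QuotientGroup.mk x)) :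
    ∃ P ∈ els ags, (∀ u ∈ T, mz u P = true) ∧ toPerm P = x.1 := by
  have hx' : x ∈ (HS ags).subgroupOf (HS pcs) := by
    obtain ⟨y, hy, hyx⟩ := hx
    have : y⁻¹ * x ∈ Subgroup.center (HS pcs) := QuotientGroup.eq.1 hyx
    rw [show x = y * (y⁻¹ * x) by group]
    exact mul_mem hy (center_le this)
  obtain ⟨P, hP, hPx'⟩ := exists_els ags_ok.1 x.1 hx'
  have hPx := hPx'.symm
  obtain ⟨hPv, hPm⟩ := els_mem (validP_of_pcOK ags_ok.1) P hP
  refine ⟨P, hP, fun u hu => ?_, hPx⟩
  rw [mz_iff (hT u hu).1 hPv (hT u hu).2 (HS_ags_le hPm), img_eq (HS_ags_le hPm)]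
  have : (⟨toPerm P, HS_ags_le hPm⟩ : HS pcs) = x := Subtype.ext hPx
  rw [this]
  exact hc u hu

theorem subA_unique {B : Subgroup Quo} (hB : IsMulCommutative B) (hB64 : Nat.card B = 64) :
    B = subA := by
  have h := fix_ok
  simp only [fixOK, Bool.and_eq_true, List.all_eq_true, List.mem_range, decide_eq_true_eq,
    Bool.or_eq_true, beq_iff_eq] at h
  obtain ⟨⟨h1, h2⟩, h7⟩ := h
  refine eq_of_fix_bounds subA_comm.1 card_subA rep cover ?_ ?_ ?_ hB hB64
  · intro i
    have := count_le (fixA subA (rep i)) (els ags) (fun a => mz (reps.getD i idP) a) fun x hx => by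
      obtain ⟨P, hP, hm, he⟩ := fix_lift (T := [reps.getD i idP]) (fun u hu => by
        rw [List.mem_singleton] at hu; subst hu; exact reps_mem i) x hx.1 (fun u hu => by
        rw [List.mem_singleton] at hu; subst hu; exact hx.2)
      exact ⟨P, hP, hm _ (List.mem_singleton_self _), he⟩
    have := h1 i i.2
    omega
  · intro i j hij
    have := count_le (fixA subA (rep i) ∩ fixA subA (rep j)) (els ags)
      (fun a => mz (reps.getD i idP) a && mz (reps.getD j idP) a) fun x hx => by
      obtain ⟨P, hP, hm, he⟩ := fix_lift (T := [reps.getD i idP, reps.getD j idP]) (fun u hu => by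
        simp only [List.mem_cons, List.not_mem_nil, or_false] at hu
        rcases hu with rfl | rfl <;> exact reps_mem _) x hx.1.1 (fun u hu => by
        simp only [List.mem_cons, List.not_mem_nil, or_false] at hu
        rcases hu with rfl | rfl
        · exact hx.1.2
        · exact hx.2.2)
      refine ⟨P, hP, ?_, he⟩
      simp only [Bool.and_eq_true]
      exact ⟨hm _ (List.mem_cons_self ..), hm _ (by simp)⟩
    have h2' := (h2 i i.2 j j.2).resolve_left fun h => hij (Fin.ext h)
    omega
  · have := count_le {a | a ∈ subA ∧ ∀ i, Commute (rep i) a} (els ags)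
      (fun a => reps.all fun u => mz u a) fun x hx => by
      have hlen : reps.length = 7 := by decide +kernel
      obtain ⟨P, hP, hm, he⟩ := fix_lift (T := reps) (fun u hu => by
        obtain ⟨i, hi, rfl⟩ := List.getElem_of_mem hu
        have := reps_mem ⟨i, hlen ▸ hi⟩
        rwa [List.getD_eq_getElem _ _ hi] at this) x hx.1 (fun u hu => by
        obtain ⟨i, hi, rfl⟩ := List.getElem_of_mem hu
        have := hx.2 ⟨i, hlen ▸ hi⟩
        rwa [rep, List.getD_eq_getElem _ _ hi] at this)
      exact ⟨P, hP, List.all_eq_true.2 hm, he⟩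
    omega

/-! ### Maximal subgroups -/

theorem max_center {M : Subgroup Quo} (hM : IsCoatom M) : Nat.card (Subgroup.center M) ≤ 8 := by
  classical
  haveI : Fact (Nat.Prime 2) := ⟨Nat.prime_two⟩
  have hQ : IsPGroup 2 Quo := IsPGroup.of_card (n := 9) (by rw [card_Quo]; norm_num)
  haveI : Group.IsNilpotent Quo := hQ.isNilpotent
  haveI hMn : M.Normal := Subgroup.NormalizerCondition.normal_of_coatom M Group.normalizerCondition_of_isNilpotent hM
  have hidx : M.index = 2 := by
    obtain ⟨k, hk⟩ := (IsPGroup.iff_card.1 (hQ.to_quotient M))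
    have hne : Nontrivial (Quo ⧸ M) := by
      rw [← Finite.one_lt_card_iff_nontrivial, ← Subgroup.index_eq_card]
      have h0 : M.index ≠ 0 := Subgroup.index_ne_zero_of_finite
      have h1 : M.index ≠ 1 := fun h => hM.1 (Subgroup.index_eq_one.1 h)
      omega
    rw [Subgroup.index_eq_card]
    by_contra h2
    obtain ⟨y, hy⟩ := exists_prime_orderOf_dvd_card' (G := Quo ⧸ M) 2 (by
      rw [hk]; refine dvd_pow_self 2 fun h => ?_
      have := Finite.one_lt_card (α := Quo ⧸ M)
      rw [hk, h] at this; simp at this)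
    have hlt : M < (Subgroup.zpowers y).comap (QuotientGroup.mk' M) := by
      refine lt_of_le_of_ne (fun x hx => ?_) fun h => ?_
      · rw [Subgroup.mem_comap, QuotientGroup.mk'_apply, (QuotientGroup.eq_one_iff x).2 hx]
        exact one_mem _
      · obtain ⟨x, rfl⟩ := QuotientGroup.mk'_surjective M y
        have : x ∈ M := by rw [h]; exact Subgroup.mem_zpowers _
        rw [QuotientGroup.mk'_apply, (QuotientGroup.eq_one_iff x).2 this, orderOf_one] at hy
        norm_num at hy
    have htop := hM.2 _ hlt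
    have : Subgroup.zpowers y = ⊤ := by
      rw [← Subgroup.map_comap_eq_self_of_surjective (QuotientGroup.mk'_surjective M)
        (Subgroup.zpowers y), htop, Subgroup.map_top_of_surjective _ (QuotientGroup.mk'_surjective M)]
    refine h2 ?_
    rw [← hy, ← Nat.card_zpowers, this, Subgroup.card_top]
  have hsq : ∀ q : Quo, q * q ∈ M := fun q => by
    rw [← sq, ← hidx]; exact Subgroup.pow_index_mem M q
  have hmul : ∀ a b : Quo, a ∉ M → b ∉ M → a * b ∈ M := fun a b ha hb =>
    (Subgroup.mul_mem_iff_of_index_two hidx).2 (iff_of_false ha hb)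
  have h := max_ok
  simp only [maxOK, Bool.and_eq_true, List.all_eq_true, List.mem_range, Bool.or_eq_true,
    beq_iff_eq, decide_eq_true_eq, Bool.not_eq_true'] at h
  obtain ⟨⟨⟨⟨-, hsqs⟩, hL⟩, hLv⟩, hv⟩ := h
  have hphi : ∀ g ∈ phi, validP g = true ∧ toPerm g ∈ HS pcs ∧ img g ∈ M := by
    intro g hg
    have hgp : g ∈ pcs := List.mem_of_mem_drop hg
    have hgv := validP_of_pcOK pcs_ok g hgp
    refine ⟨hgv, pcs_mem hgp, ?_⟩
    obtain ⟨i, hi, rfl⟩ := List.getElem_of_mem hg
    have hi6 : i < 6 := by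
      have : phi.length = 6 := by rw [phi, List.length_drop, pcs_length]
      omega
    obtain ⟨hw, he⟩ := hsqs i hi6
    set w := (sqs.getD i []).headD idP
    have hwv : validP w = true := by
      have : ∀ k < 6, validP ((sqs.getD k []).headD idP) = true := by decide +kernel
      exact this i hi6
    rw [List.getD_eq_getElem _ _ hi] at he
    rw [img_congr hgv (validP_mulP hwv hwv) he, img_mul hwv hwv (inL_valid hwv hw) (inL_valid hwv hw)]
    exact hsq _
  have hk4 : ∀ k < 4, pcs.getD k idP ∈ pcs := fun k hk => by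
    rw [List.getD_eq_getElem _ _ (by rw [pcs_length]; omega)]; exact List.getElem_mem _
  obtain ⟨v, hvb⟩ := (by decide : ∀ f : Fin 4 → Bool, ∃ v : Fin 16, ∀ k : Fin 4,
    v.1.testBit k = f k) (fun k => decide (img (pcs.getD k idP) ∉ M))
  have hbit : ∀ k, k < 4 → (v.1.testBit k = true ↔ img (pcs.getD k idP) ∉ M) := fun k hk => by
    rw [hvb ⟨k, hk⟩, decide_eq_true_eq]
  have hv0 : v.1 ≠ 0 := by
    intro h0
    refine hM.1 ?_
    rw [eq_top_iff]
    intro q _
    obtain ⟨P, hP, rfl⟩ := exists_img q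
    have hgens : ∀ g ∈ pcs, img g ∈ M := by
      intro g hg
      obtain ⟨k, hk, rfl⟩ := List.getElem_of_mem hg
      by_cases hk4' : k < 4
      · by_contra hn
        have := (hbit k hk4').2 (by rwa [List.getD_eq_getElem _ _ hk])
        rw [h0, Nat.zero_testBit] at this
        exact Bool.noConfusion this
      · refine (hphi _ ?_).2.2
        rw [phi, List.mem_iff_getElem]
        exact ⟨k - 4, by rw [List.length_drop]; omega, by
          rw [List.getElem_drop]; congr 1; omega⟩
    have key : ∀ (y : Equiv.Perm GolayPt) (hy : y ∈ HS pcs), (QuotientGroup.mk ⟨y, hy⟩ : Quo) ∈ M := by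
      intro y hy
      induction hy using Subgroup.closure_induction with
      | mem w hw =>
        obtain ⟨g, hg, rfl⟩ := hw
        have := hgens g hg
        rwa [img_eq (pcs_mem hg)] at this
      | one => exact one_mem M
      | mul a b _ _ ha hb => exact mul_mem ha hb
      | inv a _ ha => exact inv_mem ha
    rw [img_eq (els_valid hP).2]
    exact key _ _
  have hT : ∀ g ∈ maxGens v.1, validP g = true ∧ toPerm g ∈ HS pcs ∧ img g ∈ M := by
    intro g hg
    simp only [maxGens, List.mem_append, List.mem_map, List.mem_filter, List.mem_range,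
      Bool.not_eq_true'] at hg
    rcases hg with ⟨k, ⟨hk, hkv⟩, rfl⟩ | ⟨k, ⟨hk, hkv⟩, rfl⟩
    · refine ⟨validP_of_pcOK pcs_ok _ (hk4 k hk), pcs_mem (hk4 k hk), ?_⟩
      by_contra hn
      rw [(hbit k hk).2 hn] at hkv
      exact Bool.noConfusion hkv
    · set j := ((List.range 4).filter fun k => v.1.testBit k).headD 0 with hj
      have hjm : j ∈ (List.range 4).filter fun k => v.1.testBit k := by
        rw [hj]
        rcases hl : (List.range 4).filter fun k => v.1.testBit k with _ | ⟨a, l⟩
        · have : k ∈ ([] : List ℕ) := hl ▸ List.mem_filter.2 ⟨List.mem_range.2 hk, hkv⟩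
          simp at this
        · simp
      rw [List.mem_filter, List.mem_range] at hjm
      have hv1 := validP_of_pcOK pcs_ok _ (hk4 k hk)
      have hv2 := validP_of_pcOK pcs_ok _ (hk4 j hjm.1)
      refine ⟨validP_mulP hv2 hv1, ?_, ?_⟩
      · rw [toPerm_mulP hv2 hv1]; exact mul_mem (pcs_mem (hk4 j hjm.1)) (pcs_mem (hk4 k hk))
      · rw [img_mul hv2 hv1 (pcs_mem (hk4 j hjm.1)) (pcs_mem (hk4 k hk))]
        exact hmul _ _ ((hbit j hjm.1).1 hjm.2) ((hbit k hk).1 hkv)
  set K : Set Quo := (fun c : Subgroup.center M => ((c : M) : Quo)) '' Set.univ with hK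
  have hKc : K.ncard = Nat.card (Subgroup.center M) := by
    rw [hK, Set.ncard_image_of_injective _ (fun a b h => Subtype.ext (Subtype.ext h)), Set.ncard_univ]
  have := count_le K cphi (fun P => (maxGens v.1).all (mz P)) fun x hx => by
    obtain ⟨c, -, hc⟩ := hx
    have hcomm : ∀ q ∈ M, Commute (QuotientGroup.mk x : Quo) q := fun q hq => by
      have := congrArg Subtype.val (Subgroup.mem_center_iff.1 c.2 ⟨q, hq⟩)
      rw [← hc]
      exact this.symm
    obtain ⟨P, hP, hPx'⟩ := exists_els pcs_ok x.1 x.2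
    have hPx := hPx'.symm
    obtain ⟨hPv, hPm⟩ := els_valid hP
    have himg : img P = QuotientGroup.mk x := by
      rw [img_eq hPm]; exact congrArg _ (Subtype.ext hPx)
    have hmzphi : ∀ g ∈ phi, mz P g = true := fun g hg => by
      obtain ⟨h1, h2, h3⟩ := hphi g hg
      rw [mz_iff hPv h1 hPm h2, himg]
      exact hcomm _ h3
    rcases hL P hP with h1 | h1
    · exact absurd (List.all_eq_true.2 hmzphi) (by rw [h1]; exact Bool.false_ne_true)
    · simp only [inL, List.any_eq_true] at h1
      obtain ⟨R, hR, he⟩ := h1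
      refine ⟨R, hR, List.all_eq_true.2 fun g hg => ?_, ?_⟩
      · obtain ⟨h1, h2, h3⟩ := hT g hg
        have hRe := toPerm_eq_of_eqP hPv (hLv R hR) he
        rw [mz_iff (hLv R hR) h1 (hRe ▸ hPm) h2, ← img_congr hPv (hLv R hR) he, himg]
        exact hcomm _ h3
      · rw [← toPerm_eq_of_eqP hPv (hLv R hR) he, hPx]
  have hb := (hv v.1 v.2).resolve_left hv0
  omega

/-- The three properties, for a group. -/
def Props (Q : Type*) [Group Q] : Prop :=
  (∀ M : Subgroup Q, IsCoatom M → Nat.card (Subgroup.center M) ≤ 8) ∧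
    (∃ A : Subgroup Q, Cfsg.IsElementaryAbelian 2 A ∧ Nat.card A = 64) ∧
      ∀ A B : Subgroup Q, IsMulCommutative A → Nat.card A = 64 → IsMulCommutative B →
        Nat.card B = 64 → A = B

theorem props_Quo : Props Quo :=
  ⟨fun _ hM => max_center hM, ⟨subA, ⟨subA_comm.1, subA_comm.2⟩, card_subA⟩,
    fun _ _ hA hA64 hB hB64 => (subA_unique hA hA64).trans (subA_unique hB hB64).symm⟩

theorem Props.congr {Q R : Type*} [Group Q] [Group R] (e : Q ≃* R) (h : Props Q) : Props R := by
  obtain ⟨h1, ⟨A, ⟨hA1, hA2⟩, hA⟩, h3⟩ := h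
  refine ⟨fun M hM => ?_, ⟨A.map e.toMonoidHom, ⟨?_, ?_⟩, ?_⟩, fun A' B' hA' hA64 hB' hB64 => ?_⟩
  · have hco : IsCoatom (M.comap e.toMonoidHom) := by
      have := (OrderIso.isCoatom_iff e.comapSubgroup M).2 hM
      exact this
    have hle := h1 _ hco
    have e' : (M.comap e.toMonoidHom) ≃* M :=
      (MulEquiv.subgroupMap e (M.comap e.toMonoidHom)).trans (MulEquiv.subgroupCongr
        (Subgroup.map_comap_eq_self_of_surjective e.surjective M))
    rwa [Nat.card_congr (Subgroup.centerCongr e').toEquiv] at hle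
  · exact Subgroup.map_isMulCommutative A e.toMonoidHom
  · rintro _ ⟨x, hx, rfl⟩
    rw [← map_pow, hA2 x hx, map_one]
  · rw [Subgroup.card_map_of_injective e.injective]; exact hA
  · have key : ∀ C : Subgroup R, (C.map e.symm.toMonoidHom).map e.toMonoidHom = C := fun C => by
      ext x; simp [Subgroup.mem_map]
    rw [← key A', ← key B']
    refine congrArg _ (h3 _ _ (Subgroup.map_isMulCommutative A' _) ?_
      (Subgroup.map_isMulCommutative B' _) ?_)
    · rw [Subgroup.card_map_of_injective e.symm.injective]; exact hA64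
    · rw [Subgroup.card_map_of_injective e.symm.injective]; exact hB64

theorem HS_le : HS pcs ≤ M24 := by
  have h := group_ok
  simp only [groupOK, Bool.and_eq_true, List.all_eq_true] at h
  rw [HS, Subgroup.closure_le]
  rintro _ ⟨g, hg, rfl⟩
  exact toPerm_mem_M24 (h.1.1.1.1.1.1.2 g hg)

theorem props_sylow (P : Sylow 2 M24) :
    Props ((P : Subgroup M24) ⧸ Subgroup.center (P : Subgroup M24)) := by
  haveI : Fact (Nat.Prime 2) := ⟨Nat.prime_two⟩
  have hcard : Nat.card ((HS pcs).subgroupOf M24) = 2 ^ (Nat.card M24).factorization 2 := by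
    rw [Nat.card_congr (Subgroup.subgroupOfEquivOfLe HS_le).toEquiv, card_P, natCard_M24]
    have : (244823040 : ℕ).factorization 2 = 10 := by
      rw [show (244823040 : ℕ) = 2 ^ 10 * 239085 by norm_num,
        Nat.factorization_mul (by norm_num) (by norm_num), Finsupp.add_apply,
        Nat.factorization_eq_zero_of_not_dvd (show ¬ 2 ∣ 239085 by norm_num),
        Nat.factorization_pow]
      simp [Nat.prime_two.factorization_self]
    rw [this]; norm_num
  let S : Sylow 2 M24 := Sylow.ofCard _ hcard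
  have e : (P : Subgroup M24) ≃* HS pcs :=
    (Sylow.equiv P S).trans (Subgroup.subgroupOfEquivOfLe HS_le)
  exact props_Quo.congr (QuotientGroup.congr _ _ e.symm (by
    ext x
    constructor
    · rintro ⟨y, hy, rfl⟩
      exact (Subgroup.centerCongr e.symm ⟨y, hy⟩).2
    · intro hx
      exact ⟨e x, (Subgroup.centerCongr e ⟨x, hx⟩).2, e.symm_apply_apply x⟩))

end CfsgLib.Golay.SylowQuot
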